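import Groth.Agent.H78.Rees.Graded
import Groth.Agent.H78.FormalFun.Principal

/-!
# Cohomology of sequences of coherent modules of finite type

A sequence `G 0, G 1, …` of coherent modules with `r` commuting maps of degree one which is generated
in bounded degree on every affine open has cohomology generated in bounded degree.
-/

set_option linter.style.haveILetI false

noncomputable section

universe u

open CategoryTheory Limits AlgebraicGeometry Opposite TopologicalSpace

namespace Groth.Agent.H78.Rees.System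

open Groth.Agent.Lib Groth.Agent.Lib.Curves.LES Groth.Agent.Lib.CohBasics.Affine
open Groth.Agent.H78.Formal.Sections Groth.Agent.H78.FormalFun.Basic
open Groth.Agent.H78.FormalFun.Principal (δK_natural)

/-- A sequence of coherent modules with `r` commuting maps of degree one. -/
structure Sys (X : Scheme.{u}) (r : ℕ) where
  /-- The modules. -/
  G : ℕ → X.Modules
  coh : ∀ n, Coh.IsCoh (G n)
  /-- The maps. -/
  x : Fin r → ∀ n, G n ⟶ G (n + 1)
  comm : ∀ i j n, x i n ≫ x j (n + 1) = x j n ≫ x i (n + 1)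

variable {X : Scheme.{u}} {r : ℕ}

/-- Generation in bounded degree on every affine open. -/
def Gen (S : Sys X r) : Prop :=
  ∀ U : X.Opens, IsAffineOpen U → ∃ N, ∀ n, N ≤ n →
    (⊤ : Submodule Γ(X, U) Γ(S.G (n + 1), U)) ≤ ⨆ i, LinearMap.range (secₗ (S.x i n) U)

section Derived

variable (S : Sys X (r + 1))

/-- The last map. -/
abbrev last (n : ℕ) : S.G n ⟶ S.G (n + 1) := S.x (Fin.last r) n

/-- The map on kernels. -/
def xK (i : Fin r) (n : ℕ) : kernel (last S n) ⟶ kernel (last S (n + 1)) :=
  kernel.lift _ (kernel.ι (last S n) ≫ S.x i.castSucc n) (by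
    rw [Category.assoc, S.comm, kernel.condition_assoc, zero_comp])

lemma xK_ι (i : Fin r) (n : ℕ) :
    xK S i n ≫ kernel.ι (last S (n + 1)) = kernel.ι (last S n) ≫ S.x i.castSucc n :=
  kernel.lift_ι _ _ _

/-- The map on cokernels. -/
def xC (i : Fin r) (n : ℕ) : cokernel (last S n) ⟶ cokernel (last S (n + 1)) :=
  cokernel.desc _ (S.x i.castSucc (n + 1) ≫ cokernel.π (last S (n + 1))) (by
    rw [← Category.assoc, ← S.comm, Category.assoc, cokernel.condition, comp_zero])

lemma π_xC (i : Fin r) (n : ℕ) :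
    cokernel.π (last S n) ≫ xC S i n = S.x i.castSucc (n + 1) ≫ cokernel.π (last S (n + 1)) :=
  cokernel.π_desc _ _ _

/-- The map on images. -/
def xI (i : Fin r) (n : ℕ) : Abelian.image (last S n) ⟶ Abelian.image (last S (n + 1)) :=
  kernel.lift _ (Abelian.image.ι (last S n) ≫ S.x i.castSucc (n + 1)) (by
    rw [Category.assoc, ← π_xC, kernel.condition_assoc, zero_comp])

lemma xI_ι (i : Fin r) (n : ℕ) : xI S i n ≫ Abelian.image.ι (last S (n + 1)) =
    Abelian.image.ι (last S n) ≫ S.x i.castSucc (n + 1) :=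
  kernel.lift_ι _ _ _

lemma factor_xI (i : Fin r) (n : ℕ) : Abelian.factorThruImage (last S n) ≫ xI S i n =
    S.x i.castSucc n ≫ Abelian.factorThruImage (last S (n + 1)) := by
  rw [← cancel_mono (Abelian.image.ι (last S (n + 1))), Category.assoc, xI_ι, ← Category.assoc,
    Abelian.image.fac, Category.assoc, Abelian.image.fac]
  exact (S.comm _ _ n).symm

/-- The kernel sequence. -/
def seqK (n : ℕ) : ShortComplex X.Modules :=
  ShortComplex.mk (kernel.ι (last S n)) (Abelian.factorThruImage (last S n)) (by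
    rw [← cancel_mono (Abelian.image.ι (last S n)), Category.assoc, Abelian.image.fac,
      kernel.condition, zero_comp])

lemma seqK_shortExact (n : ℕ) : (seqK S n).ShortExact := by
  haveI : Mono (seqK S n).f := inferInstanceAs (Mono (kernel.ι (last S n)))
  haveI : Epi (seqK S n).g := inferInstanceAs (Epi (Abelian.factorThruImage (last S n)))
  refine { exact := ShortComplex.exact_of_f_is_kernel _ ?_ }
  refine KernelFork.IsLimit.ofι' _ _ fun {W} (k : W ⟶ S.G n) hk => ?_
  have hk' : k ≫ last S n = 0 := by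
    rw [← Abelian.image.fac (last S n), ← Category.assoc,
      show k ≫ Abelian.factorThruImage (last S n) = 0 from hk, zero_comp]
  exact ⟨kernel.lift _ k hk', kernel.lift_ι _ _ _⟩

/-- The cokernel sequence. -/
def seqC (n : ℕ) : ShortComplex X.Modules :=
  ShortComplex.mk (Abelian.image.ι (last S n)) (cokernel.π (last S n))
    (kernel.condition (cokernel.π (last S n)))

lemma seqC_shortExact (n : ℕ) : (seqC S n).ShortExact where
  exact := ShortComplex.exact_of_f_is_kernel _ (kernelIsKernel (cokernel.π (last S n)))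
  mono_f := inferInstanceAs (Mono (Abelian.image.ι (last S n)))
  epi_g := inferInstanceAs (Epi (cokernel.π (last S n)))

/-- The comparison of the kernel sequences. -/
def seqKMap (i : Fin r) (n : ℕ) : seqK S n ⟶ seqK S (n + 1) where
  τ₁ := xK S i n
  τ₂ := S.x i.castSucc n
  τ₃ := xI S i n
  comm₁₂ := xK_ι S i n
  comm₂₃ := (factor_xI S i n).symm

lemma xK_comm (i j : Fin r) (n : ℕ) : xK S i n ≫ xK S j (n + 1) = xK S j n ≫ xK S i (n + 1) := by
  rw [← cancel_mono (kernel.ι (last S (n + 2))), Category.assoc, Category.assoc, xK_ι, xK_ι,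
    ← Category.assoc, xK_ι, ← Category.assoc, xK_ι, Category.assoc, Category.assoc, S.comm]

lemma xC_comm (i j : Fin r) (n : ℕ) : xC S i n ≫ xC S j (n + 1) = xC S j n ≫ xC S i (n + 1) := by
  rw [← cancel_epi (cokernel.π (last S n)), ← Category.assoc, π_xC, Category.assoc, π_xC,
    ← Category.assoc, S.comm, Category.assoc, ← π_xC, ← Category.assoc, ← π_xC, Category.assoc]

variable [IsLocallyNoetherian X]

/-- The system of kernels of the last map. -/
def kerSys : Sys X r where
  G n := kernel (last S n)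
  coh n := CohBasics.Closure.isCoh_kernel _ (S.coh n) (S.coh (n + 1)).1
  x := xK S
  comm := xK_comm S

/-- The system of cokernels of the last map, shifted by one. -/
def cokerSys : Sys X r where
  G n := cokernel (last S n)
  coh n := CohBasics.Closure.isCoh_cokernel _ (S.coh n).1 (S.coh (n + 1))
  x := xC S
  comm := xC_comm S

lemma gen_kerSys (hS : Gen S) : Gen (kerSys S) := by
  intro U hU
  obtain ⟨N, hN⟩ := hS U hU
  haveI : IsNoetherianRing Γ(X, U) := IsLocallyNoetherian.component_noetherian ⟨U, hU⟩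
  haveI : ∀ n, Module.Finite Γ(X, U) Γ(S.G n, U) := fun n => CohBasics.Closure.finite_sections (S.coh n) hU
  let K : ∀ n, Submodule Γ(X, U) Γ(S.G n, U) := fun n => LinearMap.ker (secₗ (last S n) U)
  obtain ⟨N', hN'⟩ := Graded.sub_generated (fun i n => secₗ (S.x i n) U)
    (fun i j n m => by
      change ((S.x j n ≫ S.x i (n + 1))).app U m = (S.x i n ≫ S.x j (n + 1)).app U m
      rw [S.comm])
    hN K (fun i n m hm => by
      change (last S (n + 1)).app U ((S.x i n).app U m) = 0
      have : (S.x i n ≫ last S (n + 1)).app U m = 0 := by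
        rw [S.comm]
        change (S.x i (n + 1)).app U ((last S n).app U m) = 0
        rw [show (last S n).app U m = 0 from hm, map_zero]
      exact this)
  refine ⟨N', fun n hn z _ => ?_⟩
  let ι := fun n => secₗ (kernel.ι (last S n)) U
  have hι : ∀ n (m : Γ(S.G n, U)), m ∈ K n → m ∈ LinearMap.range (ι n) := fun n m hm => by
    let T := ShortComplex.mk (kernel.ι (last S n)) (last S n) (kernel.condition _)
    haveI : Mono T.f := inferInstanceAs (Mono (kernel.ι (last S n)))
    obtain ⟨c, hc⟩ := QCoh.Closure.sections_exact (S := T)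
      (T.exact_of_f_is_kernel (kernelIsKernel (last S n))) U m hm
    exact ⟨c, hc⟩
  have hz : ι (n + 1) z ∈ K (n + 1) := by
    change (kernel.ι (last S (n + 1)) ≫ last S (n + 1)).app U z = 0
    rw [kernel.condition]
    rfl
  have hle : ⨆ i, Submodule.map (secₗ (S.x i n) U) (K n) ≤
      Submodule.map (ι (n + 1)) (⨆ i, LinearMap.range (secₗ ((kerSys S).x i n) U)) := by
    refine iSup_le fun i => ?_
    rintro _ ⟨m, hm, rfl⟩
    induction i using Fin.lastCases with
    | last =>
      rw [show secₗ (S.x (Fin.last r) n) U m = 0 from hm]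
      exact zero_mem _
    | cast i =>
      obtain ⟨c, rfl⟩ := hι n m hm
      refine ⟨secₗ (xK S i n) U c, Submodule.mem_iSup_of_mem i ⟨c, rfl⟩, ?_⟩
      change (xK S i n ≫ kernel.ι (last S (n + 1))).app U c = _
      rw [xK_ι]
      rfl
  obtain ⟨z', hz', he⟩ := hle (hN' n hn hz)
  rwa [← QCoh.Closure.sections_injective_of_mono (kernel.ι (last S (n + 1))) U he]

lemma gen_cokerSys (hS : Gen S) : Gen (cokerSys S) := by
  intro U hU
  obtain ⟨N, hN⟩ := hS U hU
  refine ⟨N, fun n hn z _ => ?_⟩
  haveI := (S.coh (n + 1 + 1)).1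
  haveI := (S.coh (n + 1)).1
  haveI : (cokernel (last S (n + 1))).IsQuasicoherent := ((cokerSys S).coh (n + 1)).1
  obtain ⟨t, rfl⟩ := QCoh.Closure.sections_surjective_of_epi (cokernel.π (last S (n + 1))) hU z
  have hle : ⨆ i, LinearMap.range (secₗ (S.x i (n + 1)) U) ≤
      Submodule.comap (secₗ (cokernel.π (last S (n + 1))) U)
        (⨆ i, LinearMap.range (secₗ ((cokerSys S).x i n) U)) := by
    refine iSup_le fun i => ?_
    rintro _ ⟨m, rfl⟩
    induction i using Fin.lastCases with
    | last =>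
      rw [Submodule.mem_comap]
      change (last S (n + 1) ≫ cokernel.π (last S (n + 1))).app U m ∈ _
      rw [cokernel.condition]
      exact zero_mem _
    | cast i =>
      refine Submodule.mem_iSup_of_mem i ⟨(cokernel.π (last S n)).app U m, ?_⟩
      change (cokernel.π (last S n) ≫ xC S i n).app U m = _
      rw [π_xC]
      rfl
  exact hle (hN (n + 1) (by omega) Submodule.mem_top)

end Derived

variable {A : Type u} [CommRing A] [X.Over (Spec (CommRingCat.of A))]

/-- Cohomology is generated in bounded degree. -/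
def HGen (A : Type u) [CommRing A] [X.Over (Spec (CommRingCat.of A))] (S : Sys X r) (p : ℕ) : Prop :=
  ∃ N, ∀ n, N ≤ n → (⊤ : Submodule A (Coh.HH X (S.G (n + 1)) p)) ≤
    ⨆ i, LinearMap.range (H (A := A) p (S.x i n))

theorem hgen [IsNoetherian X] [IsNoetherianRing A]
    (hfin : ∀ N : X.Modules, Coh.IsCoh N → ∀ q, Module.Finite A (Coh.HH X N q)) :
    ∀ {r : ℕ} (S : Sys X r), Gen S → ∀ p, HGen A S p := by
  intro r
  induction r with
  | zero =>
    intro S hS p
    obtain ⟨N, hN⟩ := exists_uniform (X := X)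
      (fun U N => ∀ n, N ≤ n → (⊤ : Submodule Γ(X, U) Γ(S.G (n + 1), U)) ≤ ⊥)
      (fun U m n h hm k hk => hm k (h.trans hk))
      (fun U hU => (hS U hU).imp fun N hN n hn => (hN n hn).trans (iSup_le fun i => i.elim0))
    refine ⟨N, fun n hn z _ => ?_⟩
    haveI := (S.coh (n + 1)).1
    have h0 : 𝟙 (S.G (n + 1)) = 0 := eq_zero_of_cover _ fun y => by
      obtain ⟨U, hU, hy, hz⟩ := hN y
      exact ⟨U, hU, hy, fun s => (Submodule.mem_bot Γ(X, U)).mp (hz n hn (Submodule.mem_top (x := s)))⟩
    have : z = 0 := by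
      rw [← LinearMap.id_apply (R := A) z, ← mapK_id A (S.G (n + 1)) p, h0]
      exact H_zero p z
    rw [this]
    exact zero_mem _
  | succ r ih =>
    intro S hS p
    obtain ⟨NC, hNC⟩ := ih (cokerSys S) (gen_cokerSys S hS) p
    obtain ⟨NK, hNK⟩ := ih (kerSys S) (gen_kerSys S hS) (p + 1)
    haveI : ∀ n, Module.Finite A (Coh.HH X (cokernel (last S n)) p) := fun n =>
      hfin _ ((cokerSys S).coh n) p
    haveI : ∀ n, Module.Finite A (Coh.HH X (kernel (last S n)) (p + 1)) := fun n =>
      hfin _ ((kerSys S).coh n) (p + 1)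
    -- classes of cokernels coming from the modules
    obtain ⟨N₁, hN₁⟩ := Graded.sub_generated (fun i n => H (A := A) p (xC S i n))
      (fun i j n m => by rw [← H_comp, ← H_comp, xC_comm]) hNC
      (fun n => LinearMap.range (H (A := A) p (cokernel.π (last S n))))
      (fun i n m ⟨w, hw⟩ => ⟨H (A := A) p (S.x i.castSucc (n + 1)) w, by
        rw [← hw, ← H_comp, ← H_comp, π_xC]⟩)
    -- classes of kernels coming from the images
    let δ : ∀ n, Coh.HH X (Abelian.image (last S n)) p →ₗ[A] Coh.HH X (kernel (last S n)) (p + 1) :=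
      fun n => δK A (seqK_shortExact S n) p (p + 1) rfl
    have hδ : ∀ i n (u : Coh.HH X (Abelian.image (last S n)) p),
        δ (n + 1) (H (A := A) p (xI S i n) u) = H (A := A) (p + 1) (xK S i n) (δ n u) := fun i n u =>
      δK_natural (A := A) (seqK_shortExact S n) (seqK_shortExact S (n + 1)) (seqKMap S i n) p (p + 1) rfl u
    obtain ⟨N₂, hN₂⟩ := Graded.sub_generated (fun i n => H (A := A) (p + 1) (xK S i n))
      (fun i j n m => by rw [← H_comp, ← H_comp, xK_comm]) hNK
      (fun n => LinearMap.range (δ n))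
      (fun i n m ⟨w, hw⟩ => ⟨H (A := A) p (xI S i n) w, by rw [← hw]; exact hδ i n w⟩)
    refine ⟨max N₁ N₂ + 1, fun n hn z _ => ?_⟩
    obtain ⟨m, rfl⟩ : ∃ m, n = m + 1 := ⟨n - 1, by omega⟩
    let T : Submodule A (Coh.HH X (S.G (m + 1 + 1)) p) :=
      ⨆ i, LinearMap.range (H (A := A) p (S.x i (m + 1)))
    change z ∈ T
    have h1 : ⨆ i, Submodule.map (H (A := A) p (xC S i m))
        (LinearMap.range (H (A := A) p (cokernel.π (last S m)))) ≤
        Submodule.map (H (A := A) p (cokernel.π (last S (m + 1)))) T := by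
      refine iSup_le fun i => ?_
      rintro _ ⟨_, ⟨w, rfl⟩, rfl⟩
      refine ⟨H (A := A) p (S.x i.castSucc (m + 1)) w, Submodule.mem_iSup_of_mem i.castSucc ⟨w, rfl⟩, ?_⟩
      rw [← H_comp, ← H_comp, π_xC]
    obtain ⟨t, ht, hte⟩ := h1 (hN₁ m (by omega) ⟨z, rfl⟩)
    obtain ⟨u, hu⟩ : ∃ u : Coh.HH X (Abelian.image (last S (m + 1))) p,
        H (A := A) p (Abelian.image.ι (last S (m + 1))) u = z - t :=
      (exactK₂ A (seqC_shortExact S (m + 1)) p (z - t)).mp ((map_sub _ _ _).trans (sub_eq_zero.2 hte.symm))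
    let T₁ : Submodule A (Coh.HH X (Abelian.image (last S (m + 1))) p) :=
      ⨆ i, LinearMap.range (H (A := A) p (xI S i m))
    have h2 : ⨆ i, Submodule.map (H (A := A) (p + 1) (xK S i m)) (LinearMap.range (δ m)) ≤
        Submodule.map (δ (m + 1)) T₁ := by
      refine iSup_le fun i => ?_
      rintro _ ⟨_, ⟨w, rfl⟩, rfl⟩
      exact ⟨H (A := A) p (xI S i m) w, Submodule.mem_iSup_of_mem i ⟨w, rfl⟩, hδ i m w⟩
    obtain ⟨t₁, ht₁, hte₁⟩ := h2 (hN₂ m (by omega) ⟨u, rfl⟩)
    obtain ⟨v, hv⟩ : ∃ v : Coh.HH X (S.G (m + 1)) p,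
        H (A := A) p (Abelian.factorThruImage (last S (m + 1))) v = u - t₁ :=
      (exactK₃ A (seqK_shortExact S (m + 1)) p (p + 1) rfl (u - t₁)).mp
        ((map_sub _ _ _).trans (sub_eq_zero.2 hte₁.symm))
    have h3 : T₁ ≤ Submodule.comap (H (A := A) p (Abelian.image.ι (last S (m + 1)))) T := by
      refine iSup_le fun i => ?_
      rintro _ ⟨w, rfl⟩
      refine Submodule.mem_iSup_of_mem i.castSucc ⟨H (A := A) p (Abelian.image.ι (last S m)) w, ?_⟩
      rw [← H_comp, ← H_comp, xI_ι]
    have h4 : H (A := A) p (Abelian.image.ι (last S (m + 1))) (u - t₁) ∈ T := by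
      rw [← hv, ← H_comp, Abelian.image.fac]
      exact Submodule.mem_iSup_of_mem (Fin.last r) ⟨v, rfl⟩
    have h5 : z = H (A := A) p (Abelian.image.ι (last S (m + 1))) (u - t₁) +
        H (A := A) p (Abelian.image.ι (last S (m + 1))) t₁ + t := by
      rw [map_sub, sub_add_cancel, hu, sub_add_cancel]
    rw [h5]
    exact add_mem (add_mem h4 (h3 ht₁)) ht

end Groth.Agent.H78.Rees.System
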