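import Groth.Agent.H78.Rees.IdealPow
import Groth.Agent.H78.FormalFun.MittagLeffler

/-!
# Uniform bounds in the theorem on formal functions
-/

set_option linter.style.haveILetI false

noncomputable section

universe u

open CategoryTheory Limits AlgebraicGeometry Opposite TopologicalSpace

namespace Groth.Agent.H78.Rees.Consequences

open Groth.Agent.Lib Groth.Agent.Lib.Curves.LES Groth.Agent.H78.FormalFun.Basic Groth.Agent.H78.Rees.IdealPow
open Groth.Agent.H78.FormalFun.Principal (δK_natural)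
open Formal2 (idealPowMod idealPowModι idealPowIncl modPowLE modPowπ_modPowLE)

variable {A : Type u} [CommRing A] {X : Scheme.{u}} [X.Over (Spec (CommRingCat.of A))]
variable (I : Ideal A) (F : X.Modules)

/-- The sequence `I^nF → F → F/I^nF`. -/
def seq (n : ℕ) : ShortComplex X.Modules :=
  ShortComplex.mk (idealPowModι I n F) (_root_.Formal.modPowπ I n F) (kernel.condition _)

lemma seq_shortExact (n : ℕ) : (seq I F n).ShortExact where
  exact := ShortComplex.exact_of_f_is_kernel _ (kernelIsKernel (_root_.Formal.modPowπ I n F))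
  mono_f := inferInstanceAs (Mono (kernel.ι (_root_.Formal.modPowπ I n F)))
  epi_g := show Epi (_root_.Formal.modPowπ I n F) from inferInstance

/-- The comparison of these sequences. -/
def seqMap {m n : ℕ} (h : m ≤ n) : seq I F n ⟶ seq I F m where
  τ₁ := idealPowIncl I h F
  τ₂ := 𝟙 F
  τ₃ := modPowLE I h F
  comm₁₂ := (incl_ι h).trans (Category.comp_id _).symm
  comm₂₃ := (Category.id_comp _).trans (modPowπ_modPowLE I h F).symm

lemma completion_map {k l : ℕ} (h : k ≤ l) :
    (_root_.Formal.completion I F).map (homOfLE h).op = modPowLE I (Nat.succ_le_succ h) F := by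
  induction l, h using Nat.le_induction with
  | base =>
    rw [FormalFun.MittagLeffler.modPowLE_refl, show (homOfLE (le_refl k)).op = 𝟙 (op k) from rfl,
      CategoryTheory.Functor.map_id]
    rfl
  | succ l h ih =>
    rw [show (homOfLE (h.trans (Nat.le_succ l))).op = (homOfLE (Nat.le_succ l)).op ≫ (homOfLE h).op from rfl,
      Functor.map_comp, ih]
    simp only [_root_.Formal.completion, Functor.ofOpSequence_map_homOfLE_succ]
    have e : _root_.Formal.modPowTrans I (l + 1) F ≫ modPowLE I (Nat.succ_le_succ h) F =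
        modPowLE I (Nat.succ_le_succ (h.trans (Nat.le_succ l))) F := by
      rw [← cancel_epi (_root_.Formal.modPowπ I (l + 1 + 1) F), ← Category.assoc,
        _root_.Formal.modPowπ_trans, modPowπ_modPowLE, modPowπ_modPowLE]
    exact e

variable {I F} [IsNoetherian X] [IsNoetherianRing A]
variable (hfin : ∀ N : X.Modules, Coh.IsCoh N → ∀ q, Module.Finite A (Coh.HH X N q))
include hfin

/-- Classes dying modulo a high power are divisible by a high power. -/
theorem kernels_adically_small (hF : Coh.IsCoh F) (p : ℕ) : ∃ c : ℕ, ∀ n : ℕ, c ≤ n →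
    ∀ z : Coh.HH X F p, H (A := A) p (_root_.Formal.modPowπ I (n + 1) F) z = 0 →
      z ∈ I ^ (n - c) • (⊤ : Submodule A (Coh.HH X F p)) := by
  obtain ⟨N, hN⟩ := exists_span (I := I) hfin hF p
  refine ⟨N, fun n hn z hz => ?_⟩
  obtain ⟨u, hu⟩ : ∃ u : Coh.HH X (idealPowMod I (n + 1) F) p, H (A := A) p (idealPowModι I (n + 1) F) u = z :=
    (exactK₂ A (seq_shortExact I F (n + 1)) p z).mp hz
  rw [← hu]
  refine (Submodule.span_le.2 ?_ : _ ≤ Submodule.comap (H (A := A) p (idealPowModι I (n + 1) F))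
    (I ^ (n - N) • (⊤ : Submodule A (Coh.HH X F p)))) (hN N le_rfl (n + 1) (by omega) u)
  rintro _ ⟨a, ha, w, rfl⟩
  rw [SetLike.mem_coe, Submodule.mem_comap, H_ι_mulPow]
  exact Submodule.smul_mem_smul (Ideal.pow_le_pow_right (by omega) ha) Submodule.mem_top

/-- The kernels of `H^p(F) → H^p(F/I^{k+1}F)` form a good filtration. -/
theorem kernel_filtration_good (hF : Coh.IsCoh F) (p : ℕ) : ∃ k₀ : ℕ, ∀ k : ℕ, k₀ ≤ k →
    LinearMap.ker (H (A := A) p (_root_.Formal.modPowπ I (k + 1 + 1) F)) =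
      I • LinearMap.ker (H (A := A) p (_root_.Formal.modPowπ I (k + 1) F)) := by
  obtain ⟨r, f, hf, N, hN⟩ := exists_gen (I := I) hfin hF p
  refine ⟨N, fun k hk => le_antisymm (fun z hz => ?_) (Submodule.smul_le.2 fun a ha z hz => ?_)⟩
  · obtain ⟨u, hu⟩ : ∃ u : Coh.HH X (idealPowMod I (k + 1 + 1) F) p,
        H (A := A) p (idealPowModι I (k + 1 + 1) F) u = z :=
      (exactK₂ A (seq_shortExact I F (k + 1 + 1)) p z).mp (LinearMap.mem_ker.1 hz)
    rw [← hu]
    refine (iSup_le fun i => ?_ : (⨆ i, LinearMap.range (H (A := A) p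
      (mulPow (F := F) (hf i) (le_refl (k + 1 + 1))))) ≤ Submodule.comap (H (A := A) p (idealPowModι I (k + 1 + 1) F))
        (I • LinearMap.ker (H (A := A) p (_root_.Formal.modPowπ I (k + 1) F))))
      (hN (k + 1) (by omega) Submodule.mem_top)
    rintro _ ⟨w, rfl⟩
    rw [Submodule.mem_comap, H_ι_mulPow]
    refine Submodule.smul_mem_smul (by simpa using hf i) (LinearMap.mem_ker.2 ?_)
    rw [← H_comp, kernel.condition, H_zero]
  · obtain ⟨u, hu⟩ : ∃ u : Coh.HH X (idealPowMod I (k + 1) F) p, H (A := A) p (idealPowModι I (k + 1) F) u = z :=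
      (exactK₂ A (seq_shortExact I F (k + 1)) p z).mp (LinearMap.mem_ker.1 hz)
    rw [LinearMap.mem_ker, ← hu, ← H_ι_mulPow p (j := 1) (m := k + 1 + 1) (by rwa [pow_one]) le_rfl,
      ← H_comp, kernel.condition, H_zero]

/-- The kernels at bounded distance coincide. -/
theorem kernel_stabilizes (hF : Coh.IsCoh F) (p : ℕ) : ∃ c : ℕ, ∀ (n : ℕ) (_h : c ≤ n),
    LinearMap.ker (H (A := A) p (idealPowModι I n F)) =
      LinearMap.ker (H (A := A) p (idealPowIncl I (Nat.sub_le n c) F)) := by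
  obtain ⟨c, hc⟩ := exists_kernel_bound (I := I) hfin hF p
  refine ⟨c, fun n hn => le_antisymm (fun z hz => ?_) (fun z hz => ?_)⟩
  · exact LinearMap.mem_ker.2 (hc n hn (n - c) (Nat.sub_le n c) (by omega) z (LinearMap.mem_ker.1 hz))
  · rw [LinearMap.mem_ker, ← incl_ι (Nat.sub_le n c), H_comp, LinearMap.mem_ker.1 hz, map_zero]

/-- The Mittag-Leffler condition with a uniform bound. -/
theorem mittag_leffler (hF : Coh.IsCoh F) (p : ℕ) : ∃ c : ℕ, ∀ (n k : ℕ) (h : n ≤ k), n + c ≤ k →
    LinearMap.range (H (A := A) p (modPowLE I (Nat.succ_le_succ h) F)) =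
      LinearMap.range (H (A := A) p (_root_.Formal.modPowπ I (n + 1) F)) := by
  obtain ⟨c, hc⟩ := exists_kernel_bound (I := I) hfin hF (p + 1)
  refine ⟨c, fun n k h hnk => le_antisymm ?_ ?_⟩
  · rintro _ ⟨y, rfl⟩
    let z : Coh.HH X (idealPowMod I (k + 1) F) (p + 1) := δK A (seq_shortExact I F (k + 1)) p (p + 1) rfl y
    have hz : H (A := A) (p + 1) (idealPowModι I (k + 1) F) z = 0 :=
      (exactK₁ A (seq_shortExact I F (k + 1)) p (p + 1) rfl).apply_apply_eq_zero y
    have h0 := hc (k + 1) (by omega) (n + 1) (Nat.succ_le_succ h) (by omega) z hz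
    obtain ⟨x, hx⟩ := (exactK₃ A (seq_shortExact I F (n + 1)) p (p + 1) rfl _).mp
      ((δK_natural (A := A) (seq_shortExact I F (k + 1)) (seq_shortExact I F (n + 1))
        (seqMap I F (Nat.succ_le_succ h)) p (p + 1) rfl y).trans h0)
    exact ⟨x, hx⟩
  · rintro _ ⟨x, rfl⟩
    exact ⟨H (A := A) p (_root_.Formal.modPowπ I (k + 1) F) x, by rw [← H_comp, modPowπ_modPowLE]⟩

/-- The image bound. -/
theorem image_bound (hF : Coh.IsCoh F) (p : ℕ) : ∃ c : ℕ, ∀ (n m : ℕ), c ≤ n + m →
    LinearMap.range (H (A := A) p (idealPowIncl I (Nat.le_add_right n m) F)) ≤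
      I ^ (m - (c - n)) • (⊤ : Submodule A (Coh.HH X (idealPowMod I n F) p)) := by
  obtain ⟨N, hN⟩ := exists_span (I := I) hfin hF p
  refine ⟨N, fun n m hnm => ?_⟩
  rintro _ ⟨z, rfl⟩
  refine (Submodule.span_le.2 ?_ : _ ≤ Submodule.comap (H (A := A) p (idealPowIncl I (Nat.le_add_right n m) F))
    (I ^ (m - (N - n)) • (⊤ : Submodule A (Coh.HH X (idealPowMod I n F) p))))
      (hN (max n N) (le_max_right _ _) (n + m) (max_le (Nat.le_add_right n m) hnm) z)
  rintro _ ⟨a, ha, w, rfl⟩
  rw [SetLike.mem_coe, Submodule.mem_comap, ← H_comp, mulPow_incl, mulPow_eq_smul _ _ (le_max_left n N),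
    H_comp, H_smulMod]
  exact Submodule.smul_mem_smul (Ideal.pow_le_pow_right (by omega) ha) Submodule.mem_top

end Groth.Agent.H78.Rees.Consequences
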