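import Mathlib.RingTheory.Polynomial.Basic
import Mathlib.RingTheory.Finiteness.Basic
import Mathlib.Algebra.MvPolynomial.Eval
import Mathlib.LinearAlgebra.DirectSum.Basis
import Mathlib.Algebra.DirectSum.Module
import Mathlib.RingTheory.Adjoin.Basic

/-!
# Sequences of finite modules generated by finitely many commuting operators of degree one
-/

set_option linter.style.haveILetI false

universe u v

open DirectSum

namespace Groth.Agent.H78.Rees.Graded

variable {R : Type u} [CommRing R] {r : ℕ} {M : ℕ → Type v} [∀ n, AddCommGroup (M n)]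
  [∀ n, Module R (M n)] (x : Fin r → ∀ n, M n →ₗ[R] M (n + 1))

/-- The operator on the direct sum. -/
noncomputable def op (i : Fin r) : Module.End R (⨁ n, M n) :=
  DirectSum.toModule R ℕ _ fun n => (DirectSum.lof R ℕ M (n + 1)).comp (x i n)

lemma op_lof (i : Fin r) (n : ℕ) (m : M n) :
    op x i (DirectSum.lof R ℕ M n m) = DirectSum.lof R ℕ M (n + 1) (x i n m) := by
  rw [op, DirectSum.toModule_lof]; rfl

lemma op_apply_succ (i : Fin r) (w : ⨁ n, M n) (n : ℕ) : (op x i w) (n + 1) = x i n (w n) := by
  classical
  induction w using DirectSum.induction_on with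
  | zero => simp
  | of k m =>
    rw [← DirectSum.lof_eq_of R, op_lof]
    rcases eq_or_ne k n with rfl | h
    · rw [DirectSum.lof_apply, DirectSum.lof_apply]
    · rw [DirectSum.lof_eq_of, DirectSum.lof_eq_of, DirectSum.of_eq_of_ne _ _ _ (by omega),
        DirectSum.of_eq_of_ne _ _ _ (by omega), map_zero]
  | add a b ha hb => simp [ha, hb]

lemma op_apply_zero (i : Fin r) (w : ⨁ n, M n) : (op x i w) 0 = 0 := by
  classical
  induction w using DirectSum.induction_on with
  | zero => simp
  | of k m =>
    rw [← DirectSum.lof_eq_of R, op_lof, DirectSum.lof_eq_of, DirectSum.of_eq_of_ne _ _ _ (by omega)]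
  | add a b ha hb => simp [ha, hb]

/-- A subsequence of a generated sequence of finite modules is generated. -/
theorem sub_generated [IsNoetherianRing R] [∀ n, Module.Finite R (M n)]
    (hcomm : ∀ i j n (m : M n), x i (n + 1) (x j n m) = x j (n + 1) (x i n m)) {N : ℕ}
    (hgen : ∀ n, N ≤ n → (⊤ : Submodule R (M (n + 1))) ≤ ⨆ i, LinearMap.range (x i n))
    (S : ∀ n, Submodule R (M n)) (hS : ∀ i n, ∀ m ∈ S n, x i n m ∈ S (n + 1)) :
    ∃ N', ∀ n, N' ≤ n → S (n + 1) ≤ ⨆ i, (S n).map (x i n) := by
  classical
  have hop : ∀ i j, op x i * op x j = op x j * op x i := fun i j =>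
    DirectSum.linearMap_ext R fun n => LinearMap.ext fun m => by
      simp only [LinearMap.comp_apply, Module.End.mul_apply, op_lof, hcomm i j n m]
  let A := Algebra.adjoin R (Set.range (op x))
  letI : CommRing A :=
    { Subalgebra.toRing A with
      mul_comm := (Algebra.isMulCommutative_adjoin R (s := Set.range (op x))
        (by rintro _ ⟨i, rfl⟩ _ ⟨j, rfl⟩; exact hop i j)).is_comm.comm }
  let φ : MvPolynomial (Fin r) R →ₐ[R] Module.End R (⨁ n, M n) :=
    A.val.comp (MvPolynomial.aeval fun i => (⟨op x i, Algebra.subset_adjoin ⟨i, rfl⟩⟩ : A))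
  have hφX : ∀ i, φ (MvPolynomial.X i) = op x i := fun i => by simp [φ]
  letI : Module (MvPolynomial (Fin r) R) (⨁ n, M n) := Module.compHom _ φ.toRingHom
  haveI : IsScalarTower R (MvPolynomial (Fin r) R) (⨁ n, M n) :=
    ⟨fun a p w => show φ (a • p) w = a • φ p w by rw [map_smul, LinearMap.smul_apply]⟩
  let T := DirectSum.lof R ℕ M
  have hX : ∀ i n (m : M n), (MvPolynomial.X i : MvPolynomial (Fin r) R) • T n m = T (n + 1) (x i n m) :=
    fun i n m => by
      change φ (MvPolynomial.X i) (T n m) = _
      rw [hφX, op_lof]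
  -- the sum is finite over the polynomial ring
  haveI : Module.Finite (MvPolynomial (Fin r) R) (⨁ n, M n) := by
    choose g hg using fun n => (Module.finite_def.mp (inferInstance : Module.Finite R (M n)))
    let G : Finset (⨁ n, M n) := (Finset.range (N + 1)).biUnion fun n => (g n).image (T n)
    refine ⟨⟨G, top_le_iff.1 fun w _ => ?_⟩⟩
    suffices ∀ n (m : M n), T n m ∈ Submodule.span (MvPolynomial (Fin r) R) (G : Set (⨁ n, M n)) by
      induction w using DirectSum.induction_on with
      | zero => exact zero_mem _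
      | of k m => exact this k m
      | add a b ha hb => exact add_mem (ha trivial) (hb trivial)
    intro n
    induction n with
    | zero =>
      intro m
      have hm : m ∈ Submodule.span R (g 0 : Set (M 0)) := hg 0 ▸ trivial
      have h1 := Submodule.mem_map_of_mem (f := T 0) hm
      rw [Submodule.map_span] at h1
      refine Submodule.span_le_restrictScalars R (MvPolynomial (Fin r) R) _ (Submodule.span_mono ?_ h1)
      rintro _ ⟨y, hy, rfl⟩
      exact Finset.mem_coe.2 (Finset.mem_biUnion.2 ⟨0, Finset.mem_range.2 (by omega), Finset.mem_image_of_mem _ hy⟩)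
    | succ n ih =>
      intro m
      by_cases hn : n + 1 ≤ N
      · have hm : m ∈ Submodule.span R (g (n + 1) : Set (M (n + 1))) := hg (n + 1) ▸ trivial
        have h1 := Submodule.mem_map_of_mem (f := T (n + 1)) hm
        rw [Submodule.map_span] at h1
        refine Submodule.span_le_restrictScalars R (MvPolynomial (Fin r) R) _ (Submodule.span_mono ?_ h1)
        rintro _ ⟨y, hy, rfl⟩
        exact Finset.mem_coe.2 (Finset.mem_biUnion.2 ⟨n + 1, Finset.mem_range.2 (by omega), Finset.mem_image_of_mem _ hy⟩)
      · induction hgen n (by omega) (Submodule.mem_top : m ∈ ⊤) using Submodule.iSup_induction' with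
        | mem i y hy =>
          obtain ⟨y', rfl⟩ := hy
          rw [← hX]
          exact Submodule.smul_mem _ _ (ih y')
        | zero => rw [map_zero]; exact zero_mem _
        | add a b _ _ ha hb => rw [map_add]; exact add_mem ha hb
  -- the submodule generated by `S` needs finitely many generators
  let gens : Set (⨁ n, M n) := ⋃ n, T n '' (S n : Set (M n))
  haveI : IsNoetherian (MvPolynomial (Fin r) R) (⨁ n, M n) := isNoetherian_of_isNoetherianRing_of_finite _ _
  obtain ⟨F, hFsub, hF⟩ :=
    (Submodule.fg_span_iff_fg_span_finset_subset (R := MvPolynomial (Fin r) R) gens).mp (IsNoetherian.noetherian _)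
  have hdeg : ∀ w ∈ F, ∃ n, w ∈ T n '' (S n : Set (M n)) := fun w hw => Set.mem_iUnion.1 (hFsub hw)
  choose d hd using hdeg
  let N' := F.attach.sup fun w => d w.1 w.2
  refine ⟨N', fun n hn => ?_⟩
  -- the subsequence generated in degrees at most `N'`
  let Q : ∀ n, Submodule R (M n) := Nat.rec (S 0) fun k Qk =>
    if k + 1 ≤ N' then S (k + 1) else ⨆ i, Submodule.map (x i k) Qk
  have hQ0 : ∀ k, k ≤ N' → Q k = S k := fun k hk => by
    cases k with
    | zero => rfl
    | succ k => exact if_pos hk
  have hQS : ∀ k, Q k ≤ S k := fun k => by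
    induction k with
    | zero => exact le_rfl
    | succ k ih =>
      by_cases hk : k + 1 ≤ N'
      · exact (if_pos hk).le
      · exact (if_neg hk).le.trans (iSup_le fun i => Submodule.map_le_iff_le_comap.2 fun m hm => hS i k m (ih hm))
  have hQx : ∀ i k, ∀ m ∈ Q k, x i k m ∈ Q (k + 1) := fun i k m hm => by
    by_cases hk : k + 1 ≤ N'
    · rw [hQ0 (k + 1) hk]
      exact hS i k m (hQS k hm)
    · rw [show Q (k + 1) = ⨆ i, Submodule.map (x i k) (Q k) from if_neg hk]
      exact Submodule.mem_iSup_of_mem i (Submodule.mem_map_of_mem hm)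
  let W : Submodule R (⨁ n, M n) := ⨅ k, (Q k).comap (DirectSum.component R ℕ M k)
  have hW : ∀ w, w ∈ W ↔ ∀ k, w k ∈ Q k := fun w => by
    simp only [W, Submodule.mem_iInf, Submodule.mem_comap]
    rfl
  have hWop : ∀ i, ∀ w ∈ W, op x i w ∈ W := fun i w hw => (hW _).2 fun k => by
    cases k with
    | zero => rw [op_apply_zero]; exact zero_mem _
    | succ k => rw [op_apply_succ]; exact hQx i k _ ((hW w).1 hw k)
  have hWP : ∀ (p : MvPolynomial (Fin r) R), ∀ w ∈ W, p • w ∈ W := by
    intro p
    induction p using MvPolynomial.induction_on with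
    | C a =>
      intro w hw
      rw [← MvPolynomial.algebraMap_eq, algebraMap_smul]
      exact W.smul_mem a hw
    | add p q hp hq => intro w hw; rw [add_smul]; exact add_mem (hp w hw) (hq w hw)
    | mul_X p i hp =>
      intro w hw
      rw [mul_smul]
      refine hp _ ?_
      change φ (MvPolynomial.X i) w ∈ W
      rw [hφX]
      exact hWop i w hw
  let W' : Submodule (MvPolynomial (Fin r) R) (⨁ n, M n) :=
    { W with smul_mem' := fun p w hw => hWP p w hw }
  have hle : Submodule.span (MvPolynomial (Fin r) R) gens ≤ W' := by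
    rw [hF, Submodule.span_le]
    intro w hw
    obtain ⟨m, hm, hmw⟩ := hd w hw
    rw [← hmw]
    refine (hW _).2 fun k => ?_
    rcases eq_or_ne k (d _ hw) with rfl | hk
    · rw [DirectSum.lof_apply, hQ0 _ (Finset.le_sup (f := fun w : F => d w.1 w.2) (Finset.mem_attach _ ⟨_, hw⟩))]
      exact hm
    · rw [show T (d _ hw) m k = 0 from DirectSum.of_eq_of_ne _ _ _ hk]
      exact zero_mem _
  intro m hm
  have h1 := (hW _).1 (hle (Submodule.subset_span (Set.mem_iUnion.2 ⟨n + 1, m, hm, rfl⟩))) (n + 1)
  rw [DirectSum.lof_apply] at h1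
  rw [show Q (n + 1) = ⨆ i, Submodule.map (x i n) (Q n) from if_neg (by omega)] at h1
  exact iSup_mono (fun i => Submodule.map_mono (hQS n)) h1

end Groth.Agent.H78.Rees.Graded
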