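import Groth.Agent.H78.Rees.System
import Groth.Prelude.Def_Formal2

/-!
# Cohomology of the powers of an ideal times a coherent module
-/

set_option linter.style.haveILetI false

noncomputable section

universe u

open CategoryTheory Limits AlgebraicGeometry Opposite TopologicalSpace

namespace Groth.Agent.H78.Rees.IdealPow

open Groth.Agent.Lib Groth.Agent.Lib.Curves.LES Groth.Agent.Lib.CohBasics.Affine
open Groth.Agent.H78.Formal.Sections Groth.Agent.H78.FormalFun.Basic
open Groth.Agent.H78.FormalFun.Principal (δK_natural)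
open Groth.Agent.H78.Formal.Principal (smulMod_mul)
open Formal2 (idealPowMod idealPowModι idealPowIncl modPowLE modPowπ_modPowLE)

variable {A : Type u} [CommRing A] {X : Scheme.{u}} [X.Over (Spec (CommRingCat.of A))]
variable {I : Ideal A} {F : X.Modules}

lemma mul_ι_π {a : A} {j n m : ℕ} (ha : a ∈ I ^ j) (h : m ≤ n + j) :
    (idealPowModι I n F ≫ _root_.Formal.smulMod A F a) ≫ _root_.Formal.modPowπ I m F = 0 := by
  obtain ⟨d, hd⟩ := exists_desc (I := I) (n := n)
    (_root_.Formal.smulMod A F a ≫ _root_.Formal.modPowπ I m F) (fun b hb => by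
      rw [mem_annHom, ← Category.assoc, ← smulMod_mul]
      refine le_annHom_π I m F (Ideal.pow_le_pow_right h ?_)
      rw [pow_add]
      exact Ideal.mul_mem_mul hb ha)
  rw [Category.assoc, ← hd, ← Category.assoc, kernel.condition, zero_comp]

/-- Multiplication by an element of `I^j` between the powers of `I` times `F`. -/
def mulPow {a : A} {j n m : ℕ} (ha : a ∈ I ^ j) (h : m ≤ n + j) :
    idealPowMod I n F ⟶ idealPowMod I m F :=
  kernel.lift _ (idealPowModι I n F ≫ _root_.Formal.smulMod A F a) (mul_ι_π ha h)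

@[reassoc]
lemma mulPow_ι {a : A} {j n m : ℕ} (ha : a ∈ I ^ j) (h : m ≤ n + j) :
    mulPow (F := F) ha h ≫ idealPowModι I m F = idealPowModι I n F ≫ _root_.Formal.smulMod A F a :=
  kernel.lift_ι _ _ _

lemma incl_ι {m n : ℕ} (h : m ≤ n) :
    idealPowIncl I h F ≫ idealPowModι I m F = idealPowModι I n F :=
  kernel.lift_ι _ _ _

lemma mulPow_incl {a : A} {j n m l : ℕ} (ha : a ∈ I ^ j) (h : m ≤ n + j) (hl : l ≤ m) :
    mulPow (F := F) ha h ≫ idealPowIncl I hl F = mulPow ha (hl.trans h) := by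
  rw [← cancel_mono (idealPowModι I l F), Category.assoc, incl_ι, mulPow_ι, mulPow_ι]

lemma mulPow_eq_smul {a : A} {j n m : ℕ} (ha : a ∈ I ^ j) (h : m ≤ n + j) (hmn : m ≤ n) :
    mulPow (F := F) ha h =
      idealPowIncl I hmn F ≫ _root_.Formal.smulMod A (idealPowMod I m F) a := by
  rw [← cancel_mono (idealPowModι I m F), mulPow_ι, Category.assoc, smulMod_comp, ← Category.assoc,
    incl_ι]

lemma H_ι_mulPow (p : ℕ) {a : A} {j n m : ℕ} (ha : a ∈ I ^ j) (h : m ≤ n + j)
    (w : Coh.HH X (idealPowMod I n F) p) :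
    H (A := A) p (idealPowModι I m F) (H (A := A) p (mulPow ha h) w) =
      a • H (A := A) p (idealPowModι I n F) w := by
  rw [← H_comp, mulPow_ι, H_comp, H_smulMod]

variable [IsLocallyNoetherian X]

lemma isCoh_idealPowMod (hF : Coh.IsCoh F) (n : ℕ) : Coh.IsCoh (idealPowMod I n F) :=
  CohBasics.Closure.isCoh_kernel _ hF (isCoh_modPow I n hF).1

/-- The system of the powers of `I` times `F`. -/
def sys (hF : Coh.IsCoh F) {r : ℕ} (f : Fin r → A) (hf : ∀ i, f i ∈ I ^ 1) : System.Sys X r where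
  G n := idealPowMod I n F
  coh := isCoh_idealPowMod hF
  x i n := mulPow (hf i) (le_refl (n + 1))
  comm i j n := by
    rw [← cancel_mono (idealPowModι I (n + 1 + 1) F), Category.assoc, Category.assoc, mulPow_ι, mulPow_ι,
      mulPow_ι_assoc, mulPow_ι_assoc, ← smulMod_mul, ← smulMod_mul, mul_comm]

lemma gen_sys (hF : Coh.IsCoh F) {r : ℕ} (f : Fin r → A) (hf : ∀ i, f i ∈ I ^ 1)
    (hI : I = Ideal.span (Set.range f)) : System.Gen (sys hF f hf) := by
  intro U hU
  refine ⟨0, fun n _ z _ => ?_⟩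
  haveI := hF.1
  let ι := fun n => secₗ (idealPowModι I n F) U
  let P : Submodule Γ(X, U) Γ(F, U) :=
    Submodule.map (ι (n + 1)) (⨆ i, LinearMap.range (secₗ ((sys hF f hf).x i n) U))
  have hz : ι (n + 1) z ∈ sIdeal I U ^ (n + 1) • (⊤ : Submodule Γ(X, U) Γ(F, U)) := by
    refine (modPowπ_eq_zero_iff I (n + 1) hU _).1 ?_
    exact (congrArg (fun t : idealPowMod I (n + 1) F ⟶ _ => t.app U z) (kernel.condition _)).trans rfl
  rw [pow_succ', mul_smul] at hz
  have hle : sIdeal I U • (sIdeal I U ^ n • (⊤ : Submodule Γ(X, U) Γ(F, U))) ≤ P := by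
    refine Submodule.smul_le.2 fun a ha m hm => ?_
    have hspan : sIdeal I U = Ideal.span (Set.range fun i => sMap A U (f i)) := by
      rw [sIdeal, hI, Ideal.map_span, ← Set.range_comp]; rfl
    rw [hspan] at ha
    refine (Ideal.span_le.2 ?_ : Ideal.span (Set.range fun i => sMap A U (f i)) ≤
      Submodule.comap (LinearMap.toSpanSingleton Γ(X, U) Γ(F, U) m) P) ha
    rintro _ ⟨i, rfl⟩
    let T := ShortComplex.mk (idealPowModι I n F) (_root_.Formal.modPowπ I n F) (kernel.condition _)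
    haveI : Mono T.f := inferInstanceAs (Mono (kernel.ι (_root_.Formal.modPowπ I n F)))
    obtain ⟨w, hw⟩ := QCoh.Closure.sections_exact (S := T)
      (T.exact_of_f_is_kernel (kernelIsKernel (_root_.Formal.modPowπ I n F))) U m
      ((modPowπ_eq_zero_iff I n hU _).2 hm)
    refine ⟨secₗ ((sys hF f hf).x i n) U w, Submodule.mem_iSup_of_mem i ⟨w, rfl⟩, ?_⟩
    change (mulPow (hf i) (le_refl (n + 1)) ≫ idealPowModι I (n + 1) F).app U w =
      sMap A U (f i) • m
    rw [mulPow_ι, ← smulMod_app, ← hw]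
    rfl
  obtain ⟨z', hz', he⟩ := hle hz
  rwa [← QCoh.Closure.sections_injective_of_mono (idealPowModι I (n + 1) F) U he]

omit [IsLocallyNoetherian X] in
/-- Submodules generated in degree one from `N` on are spanned by multiples of a fixed one. -/
theorem span_of_gen (p : ℕ) {r : ℕ} (f : Fin r → A) (hf : ∀ i, f i ∈ I ^ 1) {N : ℕ}
    (S : ∀ n, Submodule A (Coh.HH X (idealPowMod I n F) p))
    (hS : ∀ n, N ≤ n → S (n + 1) ≤
      ⨆ i, (S n).map (H (A := A) p (mulPow (F := F) (hf i) (le_refl (n + 1)))))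
    {b : ℕ} (hb : N ≤ b) (n : ℕ) (hbn : b ≤ n) :
    S n ≤ Submodule.span A {y | ∃ (a : A) (ha : a ∈ I ^ (n - b)), ∃ w ∈ S b,
      H (A := A) p (mulPow ha (show n ≤ b + (n - b) by omega)) w = y} := by
  induction n, hbn using Nat.le_induction with
  | base =>
    intro z hz
    refine Submodule.subset_span ⟨1, by rw [Nat.sub_self, pow_zero, Ideal.one_eq_top]; trivial, z, hz, ?_⟩
    rw [mulPow_eq_smul _ _ le_rfl, H_comp, H_smulMod, one_smul,
      show idealPowIncl I (le_refl b) F = 𝟙 _ by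
        rw [← cancel_mono (idealPowModι I b F), incl_ι, Category.id_comp]]
    exact LinearMap.congr_fun (mapK_id A _ p) z
  | succ n hn ih =>
    refine (hS n (hb.trans hn)).trans (iSup_le fun i => ?_)
    refine (Submodule.map_mono ih).trans ?_
    rw [Submodule.map_span]
    refine Submodule.span_mono ?_
    rintro _ ⟨_, ⟨a, ha, w, hw, rfl⟩, rfl⟩
    refine ⟨a * f i, by rw [show n + 1 - b = (n - b) + 1 by omega, pow_add]; exact Ideal.mul_mem_mul ha (hf i),
      w, hw, ?_⟩
    rw [← H_comp]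
    congr 2
    rw [← cancel_mono (idealPowModι I (n + 1) F), Category.assoc, mulPow_ι, mulPow_ι, mulPow_ι_assoc,
      ← smulMod_mul, mul_comm]

omit [IsLocallyNoetherian X]
variable [IsNoetherian X] [IsNoetherianRing A]
variable (hfin : ∀ N : X.Modules, Coh.IsCoh N → ∀ q, Module.Finite A (Coh.HH X N q))
include hfin

theorem exists_gen (hF : Coh.IsCoh F) (p : ℕ) :
    ∃ (r : ℕ) (f : Fin r → A) (hf : ∀ i, f i ∈ I ^ 1) (N : ℕ), ∀ n, N ≤ n →
      (⊤ : Submodule A (Coh.HH X (idealPowMod I (n + 1) F) p)) ≤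
        ⨆ i, LinearMap.range (H (A := A) p (mulPow (F := F) (hf i) (le_refl (n + 1)))) := by
  obtain ⟨r, f, hf⟩ := Submodule.fg_iff_exists_fin_generating_family.mp (IsNoetherian.noetherian I)
  have hf' : ∀ i, f i ∈ I ^ 1 := fun i => by rw [pow_one, ← hf]; exact Submodule.subset_span ⟨i, rfl⟩
  obtain ⟨N, hN⟩ := System.hgen hfin (sys hF f hf') (gen_sys hF f hf' hf.symm) p
  exact ⟨r, f, hf', N, hN⟩

/-- Classes on deep powers are combinations of classes on a fixed one. -/
theorem exists_span (hF : Coh.IsCoh F) (p : ℕ) :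
    ∃ N, ∀ b, N ≤ b → ∀ n, b ≤ n → ∀ z : Coh.HH X (idealPowMod I n F) p,
      z ∈ Submodule.span A {y | ∃ (a : A) (ha : a ∈ I ^ (n - b)) (w : Coh.HH X (idealPowMod I b F) p),
        H (A := A) p (mulPow ha (show n ≤ b + (n - b) by omega)) w = y} := by
  obtain ⟨r, f, hf, N, hN⟩ := exists_gen (I := I) hfin hF p
  refine ⟨N, fun b hb n hbn z => ?_⟩
  refine Submodule.span_mono ?_ (span_of_gen p f hf (fun _ => ⊤)
    (fun n hn => (hN n hn).trans (iSup_mono fun i => (Submodule.map_top _).ge)) hb n hbn Submodule.mem_top)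
  rintro _ ⟨a, ha, w, -, rfl⟩
  exact ⟨a, ha, w, rfl⟩

/-- The kernel to the cohomology of `F` dies at bounded distance. -/
theorem exists_kernel_bound (hF : Coh.IsCoh F) (p : ℕ) :
    ∃ c, ∀ n, c ≤ n → ∀ m, ∀ (hm : m ≤ n), m + c ≤ n → ∀ z : Coh.HH X (idealPowMod I n F) p,
      H (A := A) p (idealPowModι I n F) z = 0 → H (A := A) p (idealPowIncl I hm F) z = 0 := by
  obtain ⟨r, f, hf, N, hN⟩ := exists_gen (I := I) hfin hF p
  haveI : ∀ n, Module.Finite A (Coh.HH X (idealPowMod I n F) p) := fun n =>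
    hfin _ (isCoh_idealPowMod hF n) p
  let x : Fin r → ∀ n, Coh.HH X (idealPowMod I n F) p →ₗ[A] Coh.HH X (idealPowMod I (n + 1) F) p :=
    fun i n => H (A := A) p (mulPow (F := F) (hf i) (le_refl (n + 1)))
  obtain ⟨c, hc⟩ := Graded.sub_generated (M := fun n => Coh.HH X (idealPowMod I n F) p) x
    (fun i j n z => by
      change H (A := A) p _ (H (A := A) p _ z) = H (A := A) p _ (H (A := A) p _ z)
      rw [← H_comp, ← H_comp]
      congr 2
      rw [← cancel_mono (idealPowModι I (n + 1 + 1) F), Category.assoc, Category.assoc, mulPow_ι, mulPow_ι,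
        mulPow_ι_assoc, mulPow_ι_assoc, ← smulMod_mul, ← smulMod_mul, mul_comm])
    hN (fun n => LinearMap.ker (H (A := A) p (idealPowModι I n F)))
    (fun i n z hz => by
      change H (A := A) p _ z ∈ _
      rw [LinearMap.mem_ker, H_ι_mulPow, LinearMap.mem_ker.1 hz, smul_zero])
  refine ⟨c, fun n hn m hm hmc z hz => ?_⟩
  refine (Submodule.span_le.2 ?_ : _ ≤ LinearMap.ker (H (A := A) p (idealPowIncl I hm F)))
    (span_of_gen p f hf (fun n => LinearMap.ker (H (A := A) p (idealPowModι I n F))) hc le_rfl n hn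
      (LinearMap.mem_ker.2 hz))
  rintro _ ⟨a, ha, w, hw, rfl⟩
  rw [SetLike.mem_coe, LinearMap.mem_ker, ← H_comp, mulPow_incl]
  have hz' : _root_.Formal.smulMod A F a ≫ _root_.Formal.modPowπ I m F = 0 :=
    le_annHom_π I m F (Ideal.pow_le_pow_right (show m ≤ n - c by omega) ha)
  have e : mulPow ha (hm.trans (show n ≤ c + (n - c) by omega)) =
      idealPowModι I c F ≫ kernel.lift _ (_root_.Formal.smulMod A F a) hz' := by
    rw [← cancel_mono (idealPowModι I m F), mulPow_ι, Category.assoc, kernel.lift_ι]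
  rw [e, H_comp, LinearMap.mem_ker.1 hw, map_zero]

end Groth.Agent.H78.Rees.IdealPow
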